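import Mathlib.Algebra.Polynomial.Laurent
import Mathlib.RingTheory.Flat.Localization
import Mathlib.RingTheory.RingHom.Flat
import Mathlib.RingTheory.LocalRing.ResidueField.Ideal

/-!
# Twisting the coordinate by a unit; truncation at the origin
-/

set_option autoImplicit false
set_option backward.isDefEq.respectTransparency false

universe u

open Polynomial

noncomputable section

namespace Groth.Agent.MagnetFormal

variable {k B : Type u} [CommRing k] [CommRing B] [Algebra k B]

/-- The localisation of `B[X, u, u⁻¹]` at `g`. -/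
abbrev TwistRing (g : B[X]) : Type u := Localization.Away (LaurentPolynomial.C g : LaurentPolynomial B[X])

/-- The coordinate of `B[X, u, u⁻¹]_g`. -/
def tA (g : B[X]) : TwistRing g := algebraMap (LaurentPolynomial B[X]) _ (LaurentPolynomial.C X)

/-- The unit of `B[X, u, u⁻¹]_g`. -/
def tU (g : B[X]) : (TwistRing g)ˣ :=
  ((LaurentPolynomial.isUnit_T (R := B[X]) 1).map (algebraMap (LaurentPolynomial B[X]) (TwistRing g))).unit

/-- The inclusion. -/
def tIncl (g : B[X]) : B[X] →ₐ[k] TwistRing g where
  toRingHom := (algebraMap (LaurentPolynomial B[X]) _).comp LaurentPolynomial.C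
  commutes' r := by
    rw [IsScalarTower.algebraMap_apply k (LaurentPolynomial B[X]) (TwistRing g),
      LaurentPolynomial.algebraMap_apply]
    rfl

/-- The twisted inclusion, `X ↦ u X`. -/
def tAct (g : B[X]) : B[X] →ₐ[k] TwistRing g :=
  { eval₂RingHom (((algebraMap (LaurentPolynomial B[X]) (TwistRing g)).comp LaurentPolynomial.C).comp C)
      ((tU g : TwistRing g) * tA g) with
    commutes' := fun r => by
      show eval₂ _ _ (algebraMap k B[X] r) = _
      rw [← (tIncl (k := k) g).commutes r]
      show eval₂ _ _ (C (algebraMap k B r)) = _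
      rw [eval₂_C]
      rfl }

theorem tAct_C (g : B[X]) (b : B) : tAct (k := k) g (C b) = tIncl (k := k) g (C b) := eval₂_C _ _

theorem tAct_X (g : B[X]) : tAct (k := k) g X = (tU g : TwistRing g) * tIncl (k := k) g X := eval₂_X _ _

theorem tIncl_isUnit (g : B[X]) : IsUnit (tIncl (k := k) g g) :=
  IsLocalization.Away.algebraMap_isUnit (S := TwistRing g) (LaurentPolynomial.C g : LaurentPolynomial B[X])

/-- `X ↦ u X` and `u ↦ u`. -/
def twistL (v : (LaurentPolynomial B[X])ˣ) :
    LaurentPolynomial B[X] →+* LaurentPolynomial B[X] :=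
  LaurentPolynomial.eval₂
    (eval₂RingHom (LaurentPolynomial.C.comp C) ((v : LaurentPolynomial B[X]) * LaurentPolynomial.C X))
    (LaurentPolynomial.isUnit_T (R := B[X]) 1).unit

theorem twistL_T1 (v : (LaurentPolynomial B[X])ˣ) :
    twistL v (LaurentPolynomial.T 1) = LaurentPolynomial.T 1 := by
  rw [twistL, LaurentPolynomial.eval₂_T, zpow_one]
  rfl

theorem twistL_CX (v : (LaurentPolynomial B[X])ˣ) :
    twistL v (LaurentPolynomial.C X) = (v : LaurentPolynomial B[X]) * LaurentPolynomial.C X := by
  rw [twistL, LaurentPolynomial.eval₂_C]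
  exact eval₂_X _ _

theorem twistL_CC (v : (LaurentPolynomial B[X])ˣ) (b : B) :
    twistL v (LaurentPolynomial.C (C b)) = LaurentPolynomial.C (C b) := by
  rw [twistL, LaurentPolynomial.eval₂_C]
  exact eval₂_C _ _

theorem lau_ringHom_ext {A : Type u} [CommRing A] {f g : LaurentPolynomial B[X] →+* A}
    (h₁ : ∀ b, f (LaurentPolynomial.C (C b)) = g (LaurentPolynomial.C (C b)))
    (h₂ : f (LaurentPolynomial.C X) = g (LaurentPolynomial.C X))
    (h₃ : f (LaurentPolynomial.T 1) = g (LaurentPolynomial.T 1)) : f = g := by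
  refine IsLocalization.ringHom_ext (Submonoid.powers (X : B[X][X])) (Polynomial.ringHom_ext (fun a => ?_) ?_)
  · simp only [RingHom.comp_apply, LaurentPolynomial.algebraMap_eq_toLaurent, Polynomial.toLaurent_C]
    exact RingHom.congr_fun (Polynomial.ringHom_ext (f := f.comp LaurentPolynomial.C)
      (g := g.comp LaurentPolynomial.C) h₁ h₂) a
  · simp only [RingHom.comp_apply, LaurentPolynomial.algebraMap_eq_toLaurent, Polynomial.toLaurent_X]
    exact h₃

theorem twistL_inv {v w : (LaurentPolynomial B[X])ˣ} (h : twistL v (w : LaurentPolynomial B[X]) * v = 1) :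
    (twistL v).comp (twistL w) = RingHom.id _ := by
  refine lau_ringHom_ext (fun b => ?_) ?_ ?_
  · simp only [RingHom.comp_apply, RingHom.id_apply, twistL_CC]
  · rw [RingHom.comp_apply, RingHom.id_apply, twistL_CX, map_mul, twistL_CX, ← mul_assoc, h, one_mul]
  · simp only [RingHom.comp_apply, RingHom.id_apply, twistL_T1]

theorem tAct_flat (g : B[X]) : (tAct (k := k) g).toRingHom.Flat := by
  let v := (LaurentPolynomial.isUnit_T (R := B[X]) 1).unit
  let w := (LaurentPolynomial.isUnit_T (R := B[X]) (-1)).unit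
  have hw : (w : LaurentPolynomial B[X]) = LaurentPolynomial.T (-1) := rfl
  have hv : (v : LaurentPolynomial B[X]) = LaurentPolynomial.T 1 := rfl
  have h1 : ∀ x, twistL x (w : LaurentPolynomial B[X]) = (w : LaurentPolynomial B[X]) := fun x => by
    have : twistL x (w : LaurentPolynomial B[X]) * LaurentPolynomial.T 1 = 1 := by
      conv_lhs => rw [← twistL_T1 x, ← map_mul, hw, ← LaurentPolynomial.T_add]
      simp
    calc _ = twistL x (w : LaurentPolynomial B[X]) * (LaurentPolynomial.T 1 * LaurentPolynomial.T (-1)) := by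
            rw [← LaurentPolynomial.T_add, add_neg_cancel, LaurentPolynomial.T_zero, mul_one]
      _ = _ := by rw [← mul_assoc, this, one_mul, hw]
  have hvw : (twistL v).comp (twistL w) = RingHom.id _ :=
    twistL_inv (by rw [h1, hw, hv, ← LaurentPolynomial.T_add]; simp)
  have hwv : (twistL w).comp (twistL v) = RingHom.id _ :=
    twistL_inv (by rw [hv, twistL_T1, hw, ← LaurentPolynomial.T_add]; simp)
  have hbij : Function.Bijective (twistL v) :=
    Function.bijective_iff_has_inverse.2 ⟨twistL w, RingHom.congr_fun hwv, RingHom.congr_fun hvw⟩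
  have e : (tAct (k := k) g).toRingHom =
      ((algebraMap (LaurentPolynomial B[X]) (TwistRing g)).comp (twistL v)).comp
        (algebraMap B[X] (LaurentPolynomial B[X])) := by
    refine Polynomial.ringHom_ext (fun b => ?_) ?_
    · show tAct (k := k) g (C b) = algebraMap _ _ (twistL v (algebraMap B[X] _ (C b)))
      rw [tAct_C, LaurentPolynomial.algebraMap_apply, Algebra.algebraMap_self, RingHom.id_apply, twistL_CC]
      rfl
    · show tAct (k := k) g X = algebraMap _ _ (twistL v (algebraMap B[X] _ X))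
      rw [tAct_X, LaurentPolynomial.algebraMap_apply, Algebra.algebraMap_self, RingHom.id_apply, twistL_CX, map_mul]
      rfl
  rw [e]
  haveI : Module.Free B[X] (LaurentPolynomial B[X]) :=
    Module.Free.of_basis (AddMonoidAlgebra.basis ℤ B[X])
  refine RingHom.Flat.comp ?_ (RingHom.Flat.comp (RingHom.Flat.of_bijective hbij) ?_)
  · exact RingHom.flat_algebraMap_iff.2 inferInstance
  · exact RingHom.flat_algebraMap_iff.2 (IsLocalization.flat _ (Submonoid.powers (LaurentPolynomial.C g)))

theorem exists_prime_over (P : Ideal B[X]) [P.IsPrime] (g : B[X]) (hg : g.eval 0 ∉ P.comap C) :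
    ∃ Q : Ideal (TwistRing g), Q.IsPrime ∧ Q.comap (tAct (k := k) g).toRingHom = P := by
  let K := P.ResidueField
  let F := FractionRing K[X]
  let φ : B[X] →+* K := algebraMap B[X] K
  let τ : K := φ X
  let ι : K →+* F := (algebraMap K[X] F).comp C
  let v : F := algebraMap K[X] F X
  have hv : v ≠ 0 := fun h => X_ne_zero (IsFractionRing.injective K[X] F (h.trans (map_zero _).symm))
  let θ₀ : B[X] →+* F := eval₂RingHom (ι.comp (φ.comp C)) (ι τ * v)
  let θ₁ : LaurentPolynomial B[X] →+* F := LaurentPolynomial.eval₂ θ₀ (Units.mk0 v⁻¹ (inv_ne_zero hv))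
  have hθg : θ₀ g ≠ 0 := by
    let gK : K[X] := g.map (φ.comp C)
    have e : θ₀ g = algebraMap K[X] F (gK.comp (C τ * X)) := by
      rw [← RingHom.comp_apply]
      show eval₂ _ _ g = _
      rw [Polynomial.comp, eval₂_map, hom_eval₂, map_mul]
      rfl
    rw [e, Ne, map_eq_zero_iff _ (IsFractionRing.injective K[X] F)]
    intro h0
    have h := congrArg (Polynomial.eval 0) h0
    rw [eval_comp, eval_mul, eval_C, eval_X, mul_zero, eval_zero, eval_map, ← coe_eval₂RingHom] at h
    refine hg ?_
    rw [coe_eval₂RingHom, ← map_zero (φ.comp C), eval₂_at_apply, map_zero (φ.comp C)] at h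
    exact Ideal.mem_comap.2 (Ideal.algebraMap_residueField_eq_zero.1 h)
  have hu : IsUnit (θ₁ (LaurentPolynomial.C g)) := by
    rw [show θ₁ (LaurentPolynomial.C g) = θ₀ g from LaurentPolynomial.eval₂_C _ _ _]
    exact IsUnit.mk0 _ hθg
  let θ : TwistRing g →+* F := IsLocalization.Away.lift (LaurentPolynomial.C g) hu
  have e : θ.comp (tAct (k := k) g).toRingHom = ι.comp φ := by
    have h2 : ∀ x, θ (algebraMap (LaurentPolynomial B[X]) _ x) = θ₁ x :=
      fun x => IsLocalization.Away.lift_eq _ _ x
    refine Polynomial.ringHom_ext (fun b => ?_) ?_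
    · show θ (tAct (k := k) g (C b)) = ι (φ (C b))
      rw [tAct_C]
      refine (h2 _).trans ((LaurentPolynomial.eval₂_C _ _ _).trans ?_)
      exact eval₂_C _ _
    · show θ (tAct (k := k) g X) = ι (φ X)
      rw [tAct_X, map_mul]
      rw [show θ (tU g : TwistRing g) = θ₁ (LaurentPolynomial.T 1) from h2 _,
        show θ (tIncl (k := k) g X) = θ₁ (LaurentPolynomial.C X) from h2 _]
      simp only [θ₁, LaurentPolynomial.eval₂_T, LaurentPolynomial.eval₂_C, zpow_one, Units.val_mk0]
      rw [show θ₀ X = ι τ * v from eval₂_X _ _, mul_left_comm, inv_mul_cancel₀ hv, mul_one]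
  refine ⟨RingHom.ker θ, RingHom.ker_isPrime θ, ?_⟩
  rw [RingHom.comap_ker, e, RingHom.ker_comp_of_injective φ ι.injective]
  exact Ideal.ker_algebraMap_residueField P

/-- The polynomial truncations of the localisation at the origin. -/
abbrev TruncRing (g : B[X]) (n : ℕ) : Type u :=
  (Localization.Away (g.eval 0))[X] ⧸ Ideal.span {(X : (Localization.Away (g.eval 0))[X]) ^ (n + 1)}

theorem toTrunc_isUnit (g : B[X]) (n : ℕ) :
    IsUnit (Ideal.Quotient.mk (Ideal.span {(X : (Localization.Away (g.eval 0))[X]) ^ (n + 1)})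
      ((g * C (g.eval 0)).map (algebraMap B (Localization.Away (g.eval 0))))) := by
  set L := Localization.Away (g.eval 0)
  set mk := Ideal.Quotient.mk (Ideal.span {(X : L[X]) ^ (n + 1)})
  have h0 : IsUnit (algebraMap B L (g.eval 0)) := IsLocalization.Away.algebraMap_isUnit _
  rw [Polynomial.map_mul, map_C, map_mul]
  refine IsUnit.mul ?_ ((h0.map C).map mk)
  obtain ⟨q, hq⟩ := (Polynomial.X_dvd_iff (f := g.map (algebraMap B L) - C (algebraMap B L (g.eval 0)))).2 (by
    rw [coeff_sub, coeff_map, coeff_C_zero, coeff_zero_eq_eval_zero, sub_self])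
  rw [sub_eq_iff_eq_add] at hq
  rw [hq, map_add]
  refine IsNilpotent.isUnit_add_right_of_commute ?_ ((h0.map C).map mk) ?_
  swap
  · exact (Commute.all (X * q) _).map mk
  refine ⟨n + 1, ?_⟩
  rw [← map_pow, mul_pow, Ideal.Quotient.eq_zero_iff_mem]
  exact Ideal.mul_mem_right _ _ (Ideal.subset_span rfl)

/-- The map to the truncation. -/
def toTrunc₀ (g : B[X]) (n : ℕ) : B[X] →ₐ[k] TruncRing g n :=
  (Ideal.Quotient.mkₐ k _).comp (mapAlgHom (IsScalarTower.toAlgHom k B (Localization.Away (g.eval 0))))

theorem toTrunc₀_isUnit (g : B[X]) (n : ℕ) :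
    IsUnit ((toTrunc₀ (k := k) g n).toRingHom (g * C (g.eval 0))) := toTrunc_isUnit g n

/-- The ring map to the truncation, on the open piece. -/
@[irreducible]
def toTruncHom (g : B[X]) (n : ℕ) : Localization.Away (g * C (g.eval 0)) →+* TruncRing g n :=
  IsLocalization.Away.lift (S := Localization.Away (g * C (g.eval 0))) (P := TruncRing g n) (g * C (g.eval 0))
    (toTrunc₀_isUnit (k := k) g n)

theorem toTruncHom_algebraMap (g : B[X]) (n : ℕ) (p : B[X]) :
    toTruncHom (k := k) g n (algebraMap _ _ p) = (toTrunc₀ (k := k) g n).toRingHom p := by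
  unfold toTruncHom
  exact IsLocalization.Away.lift_eq _ _ p

/-- The map to the truncation, on the open piece. -/
def toTrunc (g : B[X]) (n : ℕ) : Localization.Away (g * C (g.eval 0)) →ₐ[k] TruncRing g n :=
  { toTruncHom (k := k) g n with
    commutes' := fun r => by
      show toTruncHom (k := k) g n (algebraMap k _ r) = _
      rw [IsScalarTower.algebraMap_apply k B[X] (Localization.Away (g * C (g.eval 0)))]
      exact (toTruncHom_algebraMap g n _).trans ((toTrunc₀ (k := k) g n).commutes r) }

theorem toTrunc_algebraMap (g : B[X]) (n : ℕ) (p : B[X]) :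
    toTrunc (k := k) g n (algebraMap _ _ p) = toTrunc₀ (k := k) g n p :=
  toTruncHom_algebraMap g n p

theorem eq_of_forall_toTrunc {g : B[X]} {z w : Localization.Away (g * C (g.eval 0))}
    (h : ∀ n, toTrunc (k := k) g n z = toTrunc (k := k) g n w) : z = w := by
  rw [← sub_eq_zero]
  obtain ⟨a, s, hs⟩ := IsLocalization.exists_mk'_eq (Submonoid.powers (g * C (g.eval 0))) (z - w)
  have ha : ∀ n, toTrunc₀ (k := k) g n a = 0 := fun n => by
    have h' := IsLocalization.mk'_spec (Localization.Away (g * C (g.eval 0))) a s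
    rw [hs] at h'
    rw [sub_mul] at h'
    have := congrArg (toTrunc (k := k) g n) h'
    rw [map_sub, map_mul, map_mul, h n, sub_self, toTrunc_algebraMap g n a] at this
    exact this.symm
  have hc : ∀ j, algebraMap B (Localization.Away (g.eval 0)) (a.coeff j) = 0 := fun j => by
    have h1 : a.map (algebraMap B (Localization.Away (g.eval 0))) ∈ Ideal.span {X ^ (j + 1)} :=
      Ideal.Quotient.eq_zero_iff_mem.1 (ha j)
    have h2 := X_pow_dvd_iff.1 (Ideal.mem_span_singleton.1 h1) j (Nat.lt_succ_self j)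
    rwa [coeff_map] at h2
  have hj : ∀ j, ∃ N : ℕ, g.eval 0 ^ N * a.coeff j = 0 := fun j => by
    obtain ⟨⟨_, N, rfl⟩, hN⟩ :=
      (IsLocalization.map_eq_zero_iff (Submonoid.powers (g.eval 0)) (Localization.Away (g.eval 0)) _).1 (hc j)
    exact ⟨N, hN⟩
  choose N hN using hj
  let M := a.support.sup N
  have h0 : C (g.eval 0 ^ M) * a = 0 := by
    ext j
    rw [coeff_C_mul, coeff_zero]
    by_cases hs : j ∈ a.support
    · show g.eval 0 ^ (a.support.sup N) * _ = 0
      rw [← Nat.sub_add_cancel (Finset.le_sup hs : N j ≤ M), pow_add, mul_assoc, hN, mul_zero]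
    · rw [notMem_support_iff.1 hs, mul_zero]
  rw [← hs, IsLocalization.mk'_eq_zero_iff]
  refine ⟨⟨_, M, rfl⟩, ?_⟩
  show (g * C (g.eval 0)) ^ M * a = 0
  rw [mul_pow, ← C_pow, mul_assoc, h0, mul_zero]

end Groth.Agent.MagnetFormal
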