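import Groth.Agent.MagnetFormal.Points
import Groth.Agent.MagnetFormal.Ring
import Mathlib.AlgebraicGeometry.Morphisms.Flat

/-!
# Equivariant maps from the affine line are determined at the formal origin
-/

set_option autoImplicit false
set_option backward.isDefEq.respectTransparency false

universe u

open CategoryTheory CategoryTheory.Limits MonoidalCategory CartesianMonoidalCategory MonObj AlgebraicGeometry Opposite
open Groth.Agent.LineGrp (specA mapA)

noncomputable section

namespace Groth.Agent.MagnetFormal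

variable {k : Type u} [CommRing k]


theorem mapA_comp {A B C : Type u} [CommRing A] [Algebra k A] [CommRing B] [Algebra k B] [CommRing C] [Algebra k C]
    (f : A →ₐ[k] B) (g : B →ₐ[k] C) : mapA g ≫ mapA f = mapA (g.comp f) := by
  ext : 1
  show Spec.map _ ≫ Spec.map _ = Spec.map _
  rw [← Spec.map_comp]
  rfl

variable {X Y : Over (Spec (CommRingCat.of k))}

/-- Restriction of a map to the line over an affine chart. -/
def onChart (γ : Magnet.AMonS (Spec (CommRingCat.of k)) Nn ⊗ Y ⟶ X) {B : Type u} [CommRing B] [Algebra k B]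
    (j : specA k B ⟶ Y) : specA k (Polynomial B) ⟶ X :=
  lift (coord Polynomial.X) (mapA (IsScalarTower.toAlgHom k B (Polynomial B)) ≫ j) ≫ γ

theorem mapA_onChart (γ : Magnet.AMonS (Spec (CommRingCat.of k)) Nn ⊗ Y ⟶ X) {B A : Type u} [CommRing B] [Algebra k B]
    [CommRing A] [Algebra k A] (j : specA k B ⟶ Y) (f : Polynomial B →ₐ[k] A) :
    mapA f ≫ onChart γ j =
      lift (coord (f Polynomial.X)) (mapA (f.comp (IsScalarTower.toAlgHom k B (Polynomial B))) ≫ j) ≫ γ := by
  rw [onChart, comp_lift_assoc, mapA_coord, ← Category.assoc, mapA_comp]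

variable (a : Magnet.MonAct (Magnet.AMonS (Spec (CommRingCat.of k)) ℤ) X)

theorem equivariant (γ : (Magnet.attr a Nn).obj (op Y)) {A : Type u} [CommRing A]
    [Algebra k A] (v : Aˣ) (c : A) (t : specA k A ⟶ Y) :
    lift (coord (((v : A)) * c)) t ≫ γ.1 = lift (ucoord v) (lift (coord c) t ≫ γ.1) ≫ a.act := by
  have h := (Magnet.MonAct.mem_eqvHom_iff γ.1).mp γ.2 (specA k A) (ucoord v) (coord c) t
  simp only [Magnet.subAct] at h
  rw [Magnet.MonAct.lift_restrict_act, Magnet.MonAct.lift_regular_act, ucoord_mul_coord] at h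
  exact h

/-- The hypothesis: agreement on points with nilpotent first coordinate. -/
def AgreeNil (γ₁ γ₂ : Magnet.AMonS (Spec (CommRingCat.of k)) Nn ⊗ Y ⟶ X) : Prop :=
  ∀ (T : Over (Spec (CommRingCat.of k))) (m : T ⟶ Magnet.AMonS (Spec (CommRingCat.of k)) Nn) (t : T ⟶ Y),
    (∃ n : ℕ, ∀ m' : T ⟶ Magnet.AMonS (Spec (CommRingCat.of k)) Nn, m ^ (n + 1) * m' = m ^ (n + 1)) →
      lift m t ≫ γ₁ = lift m t ≫ γ₂

theorem eq_of_nilpotent {γ₁ γ₂ : Magnet.AMonS (Spec (CommRingCat.of k)) Nn ⊗ Y ⟶ X} (h : AgreeNil γ₁ γ₂) {A : Type u} [CommRing A]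
    [Algebra k A] {c : A} {n : ℕ} (hc : c ^ (n + 1) = 0) (t : specA k A ⟶ Y) :
    lift (coord c) t ≫ γ₁ = lift (coord c) t ≫ γ₂ :=
  h (specA k A) (coord c) t ⟨n, fun m' => by
    apply gen_ext
    rw [val_mul, val_pow, val_coord, hc, zero_mul]⟩

variable {γ₁ γ₂ : Magnet.AMonS (Spec (CommRingCat.of k)) Nn ⊗ Y ⟶ X}

/-- The localisation map. -/
def locIncl {B : Type u} [CommRing B] [Algebra k B] (G : Polynomial B) :
    Polynomial B →ₐ[k] Localization.Away G :=
  IsScalarTower.toAlgHom k (Polynomial B) (Localization.Away G)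

theorem exists_locLift {B T : Type u} [CommRing B] [Algebra k B] [CommRing T] [Algebra k T] (G : Polynomial B)
    (f : Polynomial B →ₐ[k] T) (hf : IsUnit (f G)) :
    ∃ i : Localization.Away G →ₐ[k] T, f = i.comp (locIncl G) := by
  refine ⟨{ IsLocalization.Away.lift (S := Localization.Away G) (P := T) G (g := f.toRingHom) hf with
    commutes' := fun r => ?_ }, ?_⟩
  · show IsLocalization.Away.lift (S := Localization.Away G) (P := T) G (g := f.toRingHom) hf (algebraMap k _ r) = _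
    rw [IsScalarTower.algebraMap_apply k (Polynomial B) (Localization.Away G)]
    exact (IsLocalization.Away.lift_eq _ _ _).trans (f.commutes r)
  · refine AlgHom.ext fun p => ?_
    exact (IsLocalization.Away.lift_eq (S := Localization.Away G) G (g := f.toRingHom) hf p).symm

theorem exists_agree (h : AgreeNil γ₁ γ₂) {B : Type u} [CommRing B] [Algebra k B] (j : specA k B ⟶ Y)
    (y : Ideal B) [y.IsPrime] :
    ∃ g : Polynomial B, g.eval 0 ∉ y ∧
      mapA (locIncl (g * Polynomial.C (g.eval 0))) ≫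
          onChart γ₁ j =
        mapA (locIncl (g * Polynomial.C (g.eval 0))) ≫
          onChart γ₂ j := by
  let ev : Polynomial B →ₐ[k] B := (Polynomial.aeval (R := B) (0 : B)).restrictScalars k
  have h0 : mapA ev ≫ onChart γ₁ j = mapA ev ≫ onChart γ₂ j := by
    rw [mapA_onChart, mapA_onChart]
    exact eq_of_nilpotent h (n := 0) (by simp [ev]) _
  let p₀ : ↥(Spec (CommRingCat.of (Polynomial B))) := (mapA ev).left ⟨y, inferInstance⟩
  let x := (onChart γ₁ j).left p₀
  obtain ⟨W, hW, hxW, -⟩ := exists_isAffineOpen_mem_and_subset (X := X.left) (x := x) (U := ⊤) trivial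
  let U₁ : (Spec (CommRingCat.of (Polynomial B))).Opens := (onChart γ₁ j).left ⁻¹ᵁ W
  let U₂ : (Spec (CommRingCat.of (Polynomial B))).Opens := (onChart γ₂ j).left ⁻¹ᵁ W
  have hp : p₀ ∈ U₁ ⊓ U₂ := by
    refine ⟨hxW, ?_⟩
    show (onChart γ₂ j).left ((mapA ev).left ⟨y, inferInstance⟩) ∈ W
    rw [← Scheme.Hom.comp_apply, ← Over.comp_left, ← h0, Over.comp_left, Scheme.Hom.comp_apply]
    exact hxW
  obtain ⟨_, ⟨g, rfl⟩, hgp, hgU⟩ :=
    PrimeSpectrum.isTopologicalBasis_basic_opens.exists_subset_of_mem_open hp (U₁ ⊓ U₂).2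
  have hgy : g.eval 0 ∉ y := by
    have : ev g ∉ y := hgp
    rw [← Polynomial.coeff_zero_eq_eval_zero]
    simpa [ev, Polynomial.aeval_def, Polynomial.coeff_zero_eq_eval_zero] using this
  refine ⟨g, hgy, ?_⟩
  let L := Localization.Away (g * Polynomial.C (g.eval 0))
  let inc : Polynomial B →ₐ[k] L := locIncl _
  have hsub : ∀ z : ↥(Spec (CommRingCat.of L)),
      (mapA inc).left z ∈ U₁ ⊓ U₂ := by
    intro z
    apply hgU
    show g ∉ Ideal.comap _ z.asIdeal
    rw [Ideal.mem_comap]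
    intro hz
    refine z.2.ne_top (Ideal.eq_top_of_isUnit_mem _ ?_
      (IsLocalization.Away.algebraMap_isUnit (S := L) (g * Polynomial.C (g.eval 0))))
    rw [map_mul]
    exact Ideal.mul_mem_right _ _ hz
  have hr : ∀ γ : Magnet.AMonS (Spec (CommRingCat.of k)) Nn ⊗ Y ⟶ X,
      (∀ z, ((mapA inc ≫ onChart γ j).left) z ∈ W) →
      ∃ ψ : Γ(X.left, W) ⟶ CommRingCat.of L, Spec.map ψ ≫ hW.fromSpec = (mapA inc ≫ onChart γ j).left := by
    intro γ hγ
    let q : Spec (CommRingCat.of L) ⟶ X.left := (mapA inc ≫ onChart γ j).left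
    let r := IsOpenImmersion.lift hW.fromSpec q (by
      rintro _ ⟨z, rfl⟩
      rw [hW.range_fromSpec]
      exact hγ z)
    obtain ⟨ψ, hψ⟩ := Spec.map_surjective r
    exact ⟨ψ, by rw [hψ]; exact IsOpenImmersion.lift_fac _ _ _⟩
  obtain ⟨ψ₁, hψ₁⟩ := hr γ₁ (fun z => (hsub z).1)
  obtain ⟨ψ₂, hψ₂⟩ := hr γ₂ (fun z => (hsub z).2)
  suffices ψ₁ = ψ₂ by
    ext : 1
    rw [← hψ₁, ← hψ₂, this]
  ext s
  refine eq_of_forall_toTrunc (k := k) fun n => ?_
  have e : mapA (A := Localization.Away (g * Polynomial.C (g.eval 0))) (B := TruncRing g n) (toTrunc (k := k) g n) ≫ mapA inc ≫ onChart γ₁ j =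
      mapA (A := Localization.Away (g * Polynomial.C (g.eval 0))) (B := TruncRing g n) (toTrunc (k := k) g n) ≫ mapA inc ≫ onChart γ₂ j := by
    rw [← Category.assoc, mapA_comp, ← Category.assoc, mapA_comp, mapA_onChart, mapA_onChart]
    refine eq_of_nilpotent h (n := n) ?_ _
    show (toTrunc g n (algebraMap _ _ Polynomial.X)) ^ (n + 1) = 0
    rw [toTrunc_algebraMap, ← map_pow]
    exact Ideal.Quotient.eq_zero_iff_mem.2 (by
      simpa using Ideal.subset_span (Set.mem_singleton ((Polynomial.X : Polynomial (Localization.Away (g.eval 0))) ^ (n + 1))))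
  have e' : Spec.map (ψ₁ ≫ CommRingCat.ofHom (R := Localization.Away (g * Polynomial.C (g.eval 0))) (S := TruncRing g n) (toTrunc (k := k) g n).toRingHom) =
      Spec.map (ψ₂ ≫ CommRingCat.ofHom (R := Localization.Away (g * Polynomial.C (g.eval 0))) (S := TruncRing g n) (toTrunc (k := k) g n).toRingHom) := by
    rw [← cancel_mono hW.fromSpec, Spec.map_comp, Spec.map_comp, Category.assoc, Category.assoc, hψ₁, hψ₂]
    exact congrArg CommaMorphism.left e
  exact RingHom.congr_fun (congrArg CommRingCat.Hom.hom (Spec.map_injective e')) s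

theorem onChart_eq (γ₁ γ₂ : (Magnet.attr a Nn).obj (op Y))
    (h : AgreeNil γ₁.1 γ₂.1) {B : Type u} [CommRing B] [Algebra k B] (j : specA k B ⟶ Y) :
    onChart γ₁.1 j = onChart γ₂.1 j := by
  choose g hg hgj using fun y : PrimeSpectrum B => exists_agree h j y.asIdeal
  let G : PrimeSpectrum B → Polynomial B := fun y => g y * Polynomial.C ((g y).eval 0)
  have hG : ∀ y, (G y).eval 0 ∉ y.asIdeal := fun y => by
    simp only [G, Polynomial.eval_mul, Polynomial.eval_C]
    exact fun hm => (y.2.mem_or_mem hm).elim (hg y) (hg y)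
  have key : ∀ y, mapA (tAct (k := k) (G y)) ≫ onChart γ₁.1 j = mapA (tAct (k := k) (G y)) ≫ onChart γ₂.1 j := by
    intro y
    have hC : (tAct (k := k) (G y)).comp (IsScalarTower.toAlgHom k B (Polynomial B)) =
        (tIncl (k := k) (G y)).comp (IsScalarTower.toAlgHom k B (Polynomial B)) :=
      AlgHom.ext fun b => tAct_C (k := k) (G y) b
    have hi : mapA (tIncl (k := k) (G y)) ≫ onChart γ₁.1 j = mapA (tIncl (k := k) (G y)) ≫ onChart γ₂.1 j := by
      obtain ⟨i, hfac⟩ := exists_locLift (G y) (tIncl (k := k) (G y)) (tIncl_isUnit (k := k) (G y))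
      rw [hfac, ← mapA_comp, Category.assoc, Category.assoc, hgj y]
    rw [mapA_onChart, mapA_onChart] at hi
    rw [mapA_onChart, mapA_onChart, hC, tAct_X, equivariant, equivariant, hi]
  let f : (∐ fun y : PrimeSpectrum B => Spec (CommRingCat.of (TwistRing (G y)))) ⟶
      Spec (CommRingCat.of (Polynomial B)) :=
    Sigma.desc fun y => Spec.map (CommRingCat.ofHom (tAct (k := k) (G y)).toRingHom)
  haveI hF : ∀ y, Flat (Spec.map (CommRingCat.ofHom (tAct (k := k) (G y)).toRingHom)) := fun y =>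
    (HasRingHomProperty.Spec_iff (P := @Flat)).2 (tAct_flat (k := k) (G y))
  haveI : Flat f := IsZariskiLocalAtSource.sigmaDesc (P := @Flat) hF
  haveI : Surjective f := ⟨fun P => by
    let y : PrimeSpectrum B := ⟨P.asIdeal.comap Polynomial.C, inferInstance⟩
    obtain ⟨Q, hQ, hQP⟩ := exists_prime_over (k := k) P.asIdeal (G y) (hG y)
    refine ⟨Sigma.ι (fun y : PrimeSpectrum B => Spec (CommRingCat.of (TwistRing (G y)))) y ⟨Q, hQ⟩, ?_⟩
    rw [← Scheme.Hom.comp_apply, Sigma.ι_desc]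
    exact PrimeSpectrum.ext hQP⟩
  haveI := Flat.epi_of_flat_of_surjective f
  ext : 1
  rw [← cancel_epi f]
  refine Sigma.hom_ext _ _ fun y => ?_
  rw [Sigma.ι_desc_assoc, Sigma.ι_desc_assoc]
  exact congrArg CommaMorphism.left (key y)

/-- An affine open as a test object. -/
theorem specA_lift {Z : Over (Spec (CommRingCat.of k))} {V : Z.left.Opens} (hV : IsAffineOpen V) :
    ∃ (B : Type u) (_ : CommRing B) (_ : Algebra k B) (j : specA k B ⟶ Z), IsOpenImmersion j.left ∧
      Set.range j.left = V := by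
  obtain ⟨s, hs⟩ := Spec.map_surjective (hV.fromSpec ≫ Z.hom)
  letI : Algebra k Γ(Z.left, V) := s.hom.toAlgebra
  refine ⟨Γ(Z.left, V), inferInstance, inferInstance, Over.homMk hV.fromSpec ?_, ?_, ?_⟩
  · show _ = Spec.map (CommRingCat.ofHom s.hom)
    rw [CommRingCat.ofHom_hom, hs]
  · show IsOpenImmersion hV.fromSpec
    infer_instance
  · exact hV.range_fromSpec

theorem exists_chart {Z : Over (Spec (CommRingCat.of k))} (q : Z ⟶ Y) (z : Z.left) :
    ∃ (A : Type u) (_ : CommRing A) (_ : Algebra k A) (B : Type u) (_ : CommRing B) (_ : Algebra k B)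
      (i : specA k A ⟶ Z) (j : specA k B ⟶ Y) (β : B →ₐ[k] A),
        IsOpenImmersion i.left ∧ z ∈ Set.range i.left ∧ i ≫ q = mapA β ≫ j := by
  obtain ⟨V, hV, hzV, -⟩ := exists_isAffineOpen_mem_and_subset (X := Y.left) (x := q.left z) (U := ⊤) trivial
  obtain ⟨W, hW, hzW, hWV⟩ := exists_isAffineOpen_mem_and_subset (X := Z.left) (x := z) (U := q.left ⁻¹ᵁ V) hzV
  obtain ⟨B, _, _, j, hj, hjr⟩ := specA_lift hV
  obtain ⟨A, _, _, i, hi, hir⟩ := specA_lift hW
  haveI := hj
  let q' : Spec (CommRingCat.of A) ⟶ Y.left := (i ≫ q).left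
  let r : Spec (CommRingCat.of A) ⟶ Spec (CommRingCat.of B) := IsOpenImmersion.lift j.left q' (by
    rintro _ ⟨w, rfl⟩
    exact hjr.ge (hWV (hir.le (Set.mem_range_self w))))
  have hrj : r ≫ j.left = q' := IsOpenImmersion.lift_fac _ _ _
  obtain ⟨β, hβ⟩ := Spec.map_surjective r
  have hcomm : CommRingCat.ofHom (algebraMap k B) ≫ β = CommRingCat.ofHom (algebraMap k A) := by
    apply Spec.map_injective
    rw [Spec.map_comp, hβ]
    show r ≫ (specA k B).hom = (specA k A).hom
    rw [← Over.w j, ← Category.assoc, hrj]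
    exact Over.w (i ≫ q)
  refine ⟨A, inferInstance, inferInstance, B, inferInstance, inferInstance, i, j,
    { β.hom with commutes' := fun c => RingHom.congr_fun (congrArg CommRingCat.Hom.hom hcomm) c }, hi,
    hir ▸ hzW, ?_⟩
  ext : 1
  show q' = Spec.map (CommRingCat.ofHom β.hom) ≫ j.left
  rw [CommRingCat.ofHom_hom, hβ, hrj]

theorem eq_of_agreeNil (γ₁ γ₂ : (Magnet.attr a Nn).obj (op Y))
    (h : AgreeNil γ₁.1 γ₂.1) : γ₁ = γ₂ := by
  apply Subtype.ext
  ext : 1
  choose A _ _ B _ _ i j β hi hz hij using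
    fun z : (Magnet.AMonS (Spec (CommRingCat.of k)) Nn ⊗ Y).left => exists_chart (snd (Magnet.AMonS (Spec (CommRingCat.of k)) Nn) Y) z
  let f : (∐ fun z => Spec (CommRingCat.of (A z))) ⟶ (Magnet.AMonS (Spec (CommRingCat.of k)) Nn ⊗ Y).left := Sigma.desc fun z => (i z).left
  haveI : ∀ z, Flat (i z).left := fun z => by
    haveI := hi z
    infer_instance
  haveI : Flat f := IsZariskiLocalAtSource.sigmaDesc (P := @Flat) inferInstance
  haveI : Surjective f := ⟨fun z => by
    obtain ⟨w, hw⟩ := hz z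
    refine ⟨Sigma.ι (fun z => Spec (CommRingCat.of (A z))) z w, ?_⟩
    rw [← Scheme.Hom.comp_apply, Sigma.ι_desc]
    exact hw⟩
  haveI := Flat.epi_of_flat_of_surjective f
  rw [← cancel_epi f]
  refine Sigma.hom_ext _ _ fun z => ?_
  rw [Sigma.ι_desc_assoc, Sigma.ι_desc_assoc, ← Over.comp_left, ← Over.comp_left]
  refine congrArg CommaMorphism.left ?_
  have e : ∀ γ : Magnet.AMonS (Spec (CommRingCat.of k)) Nn ⊗ Y ⟶ X, i z ≫ γ =
      mapA (Polynomial.aevalTower (β z) (val (i z ≫ fst _ _) gen)) ≫ onChart γ (j z) := by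
    intro γ
    rw [mapA_onChart]
    conv_lhs => rw [← Category.comp_id (i z), ← lift_fst_snd, comp_lift, hij z]
    congr 2
    · apply gen_ext
      rw [val_coord]
      exact (Polynomial.aevalTower_X _ _).symm
    · congr 2
      ext b
      exact (Polynomial.aevalTower_C _ _ _).symm
  rw [e γ₁.1, e γ₂.1, onChart_eq a γ₁ γ₂ h]

end Groth.Agent.MagnetFormal
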