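import Groth.Agent.LineGrp.Gm
import Groth.Prelude.Def_Magnet2

/-!
# Affine points of diagonalizable monoid schemes multiply pointwise
-/

set_option autoImplicit false
set_option backward.isDefEq.respectTransparency false

universe u

open CategoryTheory CategoryTheory.Limits MonoidalCategory CartesianMonoidalCategory MonObj AlgebraicGeometry
open Groth.Agent.LineGrp (Z specA rep pt co)

noncomputable section


namespace Groth.Agent.MagnetFormal

variable {k : Type u} [CommRing k] {A : Type u} [CommRing A] [Algebra k A]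
variable {P Q : Type} [AddCommMonoid P] [AddCommMonoid Q]

/-- The monomial. -/
abbrev mon (p : P) : MonoidAlgebra Z.{u} (Multiplicative P) := MonoidAlgebra.single (Multiplicative.ofAdd p) 1

/-- The value of a point on a monomial. -/
def val (x : specA k A ⟶ Magnet.AMonS (Spec (CommRingCat.of k)) P) (p : P) : A := co x (mon p)

/-- The structure map to `Spec ℤ`. -/
abbrev toZ (k : Type u) [CommRing k] : Spec (CommRingCat.of k) ⟶ Spec (CommRingCat.of Z.{u}) :=
  IsTerminal.from specULiftZIsTerminal _

theorem adj_symm_left (x : specA k A ⟶ Magnet.AMonS (Spec (CommRingCat.of k)) P) :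
    (((Over.mapPullbackAdj (toZ k)).homEquiv _ _).symm x).left = x.left ≫ pullback.fst _ _ := by
  rw [Adjunction.homEquiv_counit]
  simp [Over.mapPullbackAdj]

theorem adj_symm_mul (x y : specA k A ⟶ Magnet.AMonS (Spec (CommRingCat.of k)) P) :
    ((Over.mapPullbackAdj (toZ k)).homEquiv _ _).symm (x * y) =
      ((Over.mapPullbackAdj (toZ k)).homEquiv _ _).symm x *
        ((Over.mapPullbackAdj (toZ k)).homEquiv _ _).symm y := by
  apply ((Over.mapPullbackAdj (toZ k)).homEquiv _ _).injective
  rw [Equiv.apply_symm_apply, Adjunction.homEquiv_unit, Functor.map_mul, MonObj.comp_mul,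
    ← Adjunction.homEquiv_unit, ← Adjunction.homEquiv_unit, Equiv.apply_symm_apply, Equiv.apply_symm_apply]

/-- `Spec A` over the integers. -/
def zObj (k A : Type u) [CommRing k] [CommRing A] [Algebra k A] [Algebra Z.{u} A] :
    (Spec (CommRingCat.of A)).asOver (Spec (CommRingCat.of Z.{u})) ⟶
      (Over.map (toZ k)).obj (specA k A) :=
  Over.homMk (𝟙 _) (specULiftZIsTerminal.hom_ext _ _)

theorem co_eq_preimage (x : specA k A ⟶ Magnet.AMonS (Spec (CommRingCat.of k)) P)
    [Algebra Z.{u} A] :
    co x = ((Spec.mapMulEquiv (R := Z.{u}) (S := MonoidAlgebra Z.{u} (Multiplicative P)) (T := A)).symm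
      (zObj k A ≫ ((Over.mapPullbackAdj (toZ k)).homEquiv _ _).symm x)).ofConv.toRingHom := by
  show _ = (Spec.preimage _).hom
  refine congrArg (fun q => (Spec.preimage q).hom) ?_
  show x.left ≫ pullback.fst _ _ = 𝟙 _ ≫ _
  rw [Category.id_comp]
  exact (adj_symm_left x).symm

theorem conv_mon {A : Type u} [CommRing A] [Algebra Z.{u} A]
    (f g : WithConv (MonoidAlgebra Z.{u} (Multiplicative P) →ₐ[Z.{u}] A)) (p : P) :
    (f * g).ofConv (mon p) = f.ofConv (mon p) * g.ofConv (mon p) := by
  simp [AlgHom.convMul_def]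

theorem val_mul (x y : specA k A ⟶ Magnet.AMonS (Spec (CommRingCat.of k)) P) (p : P) :
    val (x * y) p = val x p * val y p := by
  letI : Algebra Z.{u} A := ((Int.castRingHom A).comp ULift.ringEquiv.toRingHom).toAlgebra
  rw [val, val, val, co_eq_preimage, co_eq_preimage, co_eq_preimage, adj_symm_mul, MonObj.comp_mul, map_mul]
  exact conv_mon _ _ p

theorem val_pow (x : specA k A ⟶ Magnet.AMonS (Spec (CommRingCat.of k)) P) (n : ℕ) (p : P) :
    val (x ^ (n + 1)) p = val x p ^ (n + 1) := by
  induction n with
  | zero => rw [zero_add, pow_one, pow_one]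
  | succ n ih => rw [pow_succ, pow_succ (val x p), val_mul, ih]

theorem ext_val {x y : specA k A ⟶ Magnet.AMonS (Spec (CommRingCat.of k)) P}
    (h : ∀ p, val x p = val y p) : x = y := by
  refine LineGrp.ext_co (MonoidAlgebra.ringHom_ext (fun r => ?_) (fun m => ?_))
  · exact RingHom.congr_fun (LineGrp.ringHom_ulift_ext
      ((co x).comp MonoidAlgebra.singleOneRingHom) ((co y).comp MonoidAlgebra.singleOneRingHom)) r
  · exact h m.toAdd

theorem val_comp_map (φ : Q →+ P) (x : specA k A ⟶ Magnet.AMonS (Spec (CommRingCat.of k)) P) (q : Q) :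
    val (x ≫ Magnet.AMonS.map _ φ) q = val x (φ q) := by
  let e := CommRingCat.ofHom (MonoidAlgebra.mapDomainBialgHom Z.{u}
    (AddMonoidHom.toMultiplicative φ)).toAlgHom.toRingHom
  have h : Spec.map (e ≫ CommRingCat.ofHom (co x)) =
      (x ≫ Magnet.AMonS.map (Spec (CommRingCat.of k)) φ).left ≫ pullback.fst _ _ := by
    rw [Spec.map_comp, Over.comp_left, Category.assoc,
      show (Magnet.AMonS.map (Spec (CommRingCat.of k)) φ).left ≫ pullback.fst _ _ = pullback.fst _ _ ≫ Spec.map e
        from pullback.lift_fst _ _ _,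
      ← Category.assoc]
    congr 1
    exact Spec.map_preimage _
  have := (congrArg (fun q => (Spec.preimage q).hom) h.symm).trans
    (congrArg CommRingCat.Hom.hom (Spec.preimage_map _))
  refine (RingHom.congr_fun this (mon q)).trans ?_
  simp [e, val]

theorem co_natural {B : Type u} [CommRing B] [Algebra k B] (f : A →ₐ[k] B)
    (x : specA k A ⟶ Magnet.AMonS (Spec (CommRingCat.of k)) P) (p : P) :
    val (LineGrp.mapA f ≫ x) p = f (val x p) :=
  RingHom.congr_fun (LineGrp.co_comp f x) (mon p)

/-- The point attached to a character of the monoid. -/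
def point (χ : Multiplicative P →* A) : specA k A ⟶ Magnet.AMonS (Spec (CommRingCat.of k)) P :=
  pt (MonoidAlgebra.liftNCRingHom ((Int.castRingHom A).comp ULift.ringEquiv.toRingHom) χ
    fun _ _ => Commute.all _ _)

theorem val_point (χ : Multiplicative P →* A) (p : P) : val (point (k := k) χ) p = χ (Multiplicative.ofAdd p) := by
  rw [val, point, LineGrp.co_pt]
  simp [MonoidAlgebra.liftNCRingHom]

/-! ### The affine line and the punctured line -/

/-- The magnet of non-negative integers. -/
abbrev Nn : AddSubmonoid ℤ := AddSubmonoid.multiples (1 : ℤ)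

/-- The generator. -/
abbrev gen : Nn := ⟨1, AddSubmonoid.mem_multiples 1⟩

theorem coe_toNat (n : Nn) : (((n : ℤ).toNat : ℕ) : ℤ) = n := by
  obtain ⟨m, j, rfl⟩ := n
  simp

theorem eq_nsmul_gen (n : Nn) : n = (n : ℤ).toNat • gen := by
  apply Subtype.ext
  rw [AddSubmonoidClass.coe_nsmul, nsmul_one, coe_toNat]

theorem gen_ext {x y : specA k A ⟶ Magnet.AMonS (Spec (CommRingCat.of k)) Nn}
    (h : val x gen = val y gen) : x = y := by
  refine ext_val fun n => ?_
  rw [eq_nsmul_gen n]
  have : ∀ z : specA k A ⟶ Magnet.AMonS (Spec (CommRingCat.of k)) Nn, ∀ j : ℕ,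
      val z (j • gen) = val z gen ^ j := by
    intro z j
    rw [val, val, ← map_pow, MonoidAlgebra.single_pow, one_pow, ← ofAdd_nsmul]
  rw [this, this, h]

/-- The point of the affine line with given coordinate. -/
def coord (a : A) : specA k A ⟶ Magnet.AMonS (Spec (CommRingCat.of k)) Nn :=
  point
    { toFun := fun n => a ^ ((n.toAdd : ℤ).toNat)
      map_one' := by simp
      map_mul' := fun m n => by
        rw [← pow_add]
        congr 1
        apply Int.ofNat_injective
        show (((((m * n).toAdd : Nn) : ℤ).toNat : ℕ) : ℤ) = _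
        rw [coe_toNat, toAdd_mul, AddMemClass.coe_add, Int.ofNat_eq_natCast, Nat.cast_add, coe_toNat, coe_toNat] }

theorem val_coord (a : A) : val (coord (k := k) a) gen = a := by
  rw [coord, val_point]
  simp

theorem mapA_coord {B : Type u} [CommRing B] [Algebra k B] (f : A →ₐ[k] B) (a : A) :
    LineGrp.mapA f ≫ coord a = coord (f a) := by
  apply gen_ext
  rw [co_natural, val_coord, val_coord]

/-- The point of the punctured line with given coordinate. -/
def ucoord (a : Aˣ) : specA k A ⟶ Magnet.AMonS (Spec (CommRingCat.of k)) ℤ :=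
  point ((Units.coeHom A).comp (zpowersHom Aˣ a))

theorem val_ucoord (a : Aˣ) : val (ucoord (k := k) a) 1 = a := by
  rw [ucoord, val_point]
  simp

theorem ucoord_mul_coord (v : Aˣ) (a : A) :
    (ucoord (k := k) v ≫ Magnet.AMonS.map _ Nn.subtype) * coord a = coord ((v : A) * a) := by
  apply gen_ext
  rw [val_mul, val_coord, val_coord, val_comp_map]
  congr 1
  exact val_ucoord v

end Groth.Agent.MagnetFormal
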